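import Groth.Agent.QCoh.CechMod
import Mathlib.RingTheory.Noetherian.Basic

/-! Lifting along powers of an element in a complex with finite first homology. -/

set_option autoImplicit false
set_option backward.isDefEq.respectTransparency false
set_option backward.isDefEq.respectTransparency.types false

universe u

open CategoryTheory CategoryTheory.Limits

namespace Groth.Agent.PicfLib.Thick

/-- The torsion of an element in a Noetherian module is bounded. -/
theorem exists_bound {R M : Type*} [CommRing R] [AddCommGroup M] [Module R M] [IsNoetherian R M] (p : R) :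
    ∃ e : ℕ, ∀ (m : M) (n : ℕ), p ^ n • m = 0 → p ^ e • m = 0 := by
  let T : ℕ →o Submodule R M :=
    { toFun := fun n => LinearMap.ker (LinearMap.lsmul R M (p ^ n))
      monotone' := fun a b hab m hm => by
        obtain ⟨c, rfl⟩ := Nat.exists_eq_add_of_le hab
        rw [LinearMap.mem_ker, LinearMap.lsmul_apply] at hm ⊢
        rw [pow_add, mul_comm, mul_smul, hm, smul_zero] }
  obtain ⟨e, he⟩ := monotone_stabilizes_iff_noetherian.2 (inferInstance : IsNoetherian R M) T
  refine ⟨e, fun m n hm => ?_⟩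
  rcases le_total n e with h | h
  · exact T.monotone h hm
  · have : m ∈ T n := hm
    rw [← he n h] at this
    exact this

/-- Cycles which are torsion modulo boundaries are killed by a fixed power modulo boundaries. -/
theorem exists_bound_homology {R : Type u} [CommRing R] [IsNoetherianRing R]
    (K : CochainComplex (ModuleCat.{u} R) ℕ) [Module.Finite R (K.homology 1)] (p : R) :
    ∃ e : ℕ, ∀ (v : K.X 1) (n : ℕ), K.d 1 2 v = 0 → (∃ w, K.d 0 1 w = p ^ n • v) →
      ∃ w, K.d 0 1 w = p ^ e • v := by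
  let S := K.sc' 0 1 2
  have hi : (ComplexShape.up ℕ).prev 1 = 0 := by simp
  have hk : (ComplexShape.up ℕ).next 1 = 2 := by simp
  let i : K.homology 1 ≅ S.moduleCatLeftHomologyData.H :=
    ((HomologicalComplex.homologyFunctorIso' (ModuleCat.{u} R) (ComplexShape.up ℕ) 0 1 2 hi hk).app K) ≪≫
      S.moduleCatHomologyIso
  haveI : Module.Finite R (LinearMap.ker S.g.hom ⧸ LinearMap.range S.moduleCatToCycles) :=
    Module.Finite.equiv i.toLinearEquiv
  haveI := isNoetherian_of_isNoetherianRing_of_finite R (LinearMap.ker S.g.hom ⧸ LinearMap.range S.moduleCatToCycles)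
  obtain ⟨e, he⟩ := exists_bound (M := LinearMap.ker S.g.hom ⧸ LinearMap.range S.moduleCatToCycles) p
  refine ⟨e, fun v n hv ⟨w, hw⟩ => ?_⟩
  let v' : LinearMap.ker S.g.hom := ⟨v, hv⟩
  have h := he (Submodule.Quotient.mk v') n (by
    rw [← Submodule.Quotient.mk_smul, Submodule.Quotient.mk_eq_zero]
    exact ⟨w, Subtype.ext hw⟩)
  rw [← Submodule.Quotient.mk_smul, Submodule.Quotient.mk_eq_zero] at h
  obtain ⟨w', hw'⟩ := h
  exact ⟨w', congrArg Subtype.val hw'⟩

/-- An approximate lift. -/
theorem exists_cycle_near {R : Type u} [CommRing R] (K : CochainComplex (ModuleCat.{u} R) ℕ) (p : R) {c e : ℕ}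
    (hc : ∀ (z : K.X 2) (n : ℕ), p ^ n • z = 0 → p ^ c • z = 0)
    (he : ∀ (v : K.X 1) (n : ℕ), K.d 1 2 v = 0 → (∃ w, K.d 0 1 w = p ^ n • v) → ∃ w, K.d 0 1 w = p ^ e • v)
    (s : K.X 0) (t : K.X 1) (hst : K.d 0 1 s = p ^ (1 + c + e) • t) :
    ∃ s' : K.X 0, K.d 0 1 s' = 0 ∧ ∃ w, s' = s - p • w := by
  have h2 : p ^ (1 + c + e) • K.d 1 2 t = 0 := by
    rw [← map_smul, ← hst, ← ConcreteCategory.comp_apply, HomologicalComplex.d_comp_d]
    rfl
  have hv : K.d 1 2 (p ^ c • t) = 0 := by rw [map_smul]; exact hc _ _ h2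
  obtain ⟨w, hw⟩ := he _ (1 + e) hv ⟨s, by rw [hst, smul_smul, ← pow_add]; congr 2; omega⟩
  refine ⟨s - p • w, ?_, w, rfl⟩
  rw [map_sub, map_smul, hw, hst, smul_smul, smul_smul, sub_eq_zero]
  congr 1
  ring

end Groth.Agent.PicfLib.Thick
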