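import Groth.Agent.PicfLib.Thick.Alg
import Groth.Agent.H23.SecRep
import Groth.Agent.H23.TrivBasic
import Groth.Agent.AmpleVan.ThickPush
import Groth.Agent.Lib.CurveDeg
import Groth.Prelude.Def_CohB1

/-! A line bundle trivial on a sufficiently thick neighbourhood of the closed fibre is trivial. -/

set_option autoImplicit false
set_option linter.style.haveILetI false
set_option linter.unusedSectionVars false
set_option backward.isDefEq.respectTransparency false
set_option backward.isDefEq.respectTransparency.types false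

universe u

open CategoryTheory CategoryTheory.Limits AlgebraicGeometry TopologicalSpace Opposite

namespace Groth.Agent.PicfLib.Thick

open Groth.Agent.InvX Groth.Agent.H23 Groth.Agent.H23.TrivBasic Groth.Agent.QCoh

variable {R : Type u} [CommRing R] [IsNoetherianRing R] [IsLocalRing R] {X : Scheme.{u}}
  [X.Over (Spec (CommRingCat.of R))] [IsProper (X ↘ Spec (CommRingCat.of R))] {L : X.Modules}

local notation "πX" => (X ↘ Spec (CommRingCat.of R))

/-- The scalars on an open. -/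
noncomputable abbrev sc (U : X.Opens) : R →+* Γ(X, U) := AmpleVan.scal R U

theorem resR_sc {U V : X.Opens} (h : V ≤ U) (a : R) : AModX.resR h (sc U a) = sc V a := by
  show (X.presheaf.map _).hom ((X.presheaf.map _).hom _) = (X.presheaf.map _).hom _
  rw [← CommRingCat.comp_apply, ← Functor.map_comp]
  rfl

omit [X.Over (Spec (CommRingCat.of R))] [IsProper (X ↘ Spec (CommRingCat.of R))] in
theorem exists_frame_cover [CompactSpace X] [X.IsSeparated] (hL : PicF.IsInvertible L) :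
    ∃ (ι : Type u) (_ : Finite ι) (U : ι → X.Opens) (e : ∀ i, Γ(L, U i)), (⨆ i, U i = ⊤) ∧ (∀ i, IsFrame (e i)) ∧
      ∀ {p : ℕ} (σ : Fin (p + 1) → ι), IsAffineOpen (⨅ a, U (σ a)) := by
  have h : ∀ x : X, ∃ U : X.Opens, x ∈ U ∧ IsAffineOpen U ∧ ∃ e : Γ(L, U), IsFrame e := fun x => by
    obtain ⟨V, hxV, e, he⟩ := InvX.exists_frame hL x
    obtain ⟨W, hW, hxW, hWV⟩ := exists_isAffineOpen_mem_and_subset (X := X) (U := V) hxV
    exact ⟨W, hxW, hW, _, he.res hWV⟩
  choose U hU hA e he using h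
  obtain ⟨s, hs⟩ := isCompact_univ.elim_finite_subcover (fun x => (U x : Set X)) (fun x => (U x).isOpen)
    fun x _ => Set.mem_iUnion.2 ⟨x, hU x⟩
  refine ⟨{x : X // x ∈ s}, Finite.of_fintype _, fun x => U x.1, fun x => e x.1, eq_top_iff.2 fun x _ => ?_,
    fun x => he x.1, fun σ => IsAffineOpen.iInf fun a => hA (σ a).1⟩
  obtain ⟨i, hi, hxi⟩ := Set.mem_iUnion₂.1 (hs (Set.mem_univ x))
  exact Opens.mem_iSup.2 ⟨⟨i, hi⟩, hxi⟩

theorem smul_val {ι : Type u} (U : ι → X.Opens) {p : ℕ} (a : R)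
    (z : (cxMod (Coh.toGlobal πX) U L).X p) (σ : Fin (p + 1) → ι) (W : {W : X.Opens // Ab.Le U σ W}) :
    (a • z).1 σ W = sc W.1 a • z.1 σ W := by
  refine (Coh.smulAb_app _ _ _ _).trans ?_
  rfl

/-- The torsion of the cochains is bounded. -/
theorem exists_bound_cochains {ι : Type u} [Finite ι] (U : ι → X.Opens) (e : ∀ i, Γ(L, U i))
    (he : ∀ i, IsFrame (e i)) (hA : ∀ {p : ℕ} (σ : Fin (p + 1) → ι), IsAffineOpen (⨅ a, U (σ a))) (q : R) :
    ∃ c : ℕ, ∀ (z : (cxMod (Coh.toGlobal πX) U L).X 2) (n : ℕ), q ^ n • z = 0 → q ^ c • z = 0 := by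
  haveI : IsLocallyNoetherian X := LocallyOfFiniteType.isLocallyNoetherian πX
  have h : ∀ σ : Fin 3 → ι, ∃ c : ℕ, ∀ (a : Γ(X, ⨅ i, U (σ i))) (n : ℕ),
      sc (⨅ i, U (σ i)) q ^ n • a = 0 → sc (⨅ i, U (σ i)) q ^ c • a = 0 := fun σ => by
    haveI : IsNoetherianRing Γ(X, ⨅ i, U (σ i)) := IsLocallyNoetherian.component_noetherian ⟨_, hA σ⟩
    exact exists_bound (R := Γ(X, ⨅ i, U (σ i))) (M := Γ(X, ⨅ i, U (σ i))) _
  choose c hc using h
  cases nonempty_fintype ι
  refine ⟨Finset.univ.sup c, fun z n hz => Subtype.ext <| funext₂ fun σ W => ?_⟩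
  let V : X.Opens := ⨅ i, U (σ i)
  have hV : Ab.Le U σ V := fun a => iInf_le (fun i => U (σ i)) a
  have hWV : W.1 ≤ V := le_iInf fun a => W.2 a
  have hz' : sc V (q ^ n) • z.1 σ ⟨V, hV⟩ = 0 := (smul_val U _ z σ ⟨V, hV⟩).symm.trans (by rw [hz]; rfl)
  have hε := (he (σ 0)).res (hV 0)
  obtain ⟨a, ha⟩ := hε.exists_coord le_rfl (z.1 σ ⟨V, hV⟩)
  rw [AModX.res_self] at ha
  rw [ha, smul_smul] at hz'
  have ha0 : sc V (q ^ n) * a = 0 := hε.coord_unique le_rfl (by rw [AModX.res_self, zero_smul]; exact hz')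
  have hca : sc V (q ^ Finset.univ.sup c) * a = 0 := by
    have h1 : sc V q ^ n • a = 0 := by rw [smul_eq_mul, ← map_pow]; exact ha0
    obtain ⟨k, hk⟩ := Nat.exists_eq_add_of_le (Finset.le_sup (f := c) (Finset.mem_univ σ))
    rw [hk, pow_add, map_mul, map_pow, map_pow, mul_comm (_ ^ c σ), mul_assoc]
    have h2 := hc σ a n h1
    rw [smul_eq_mul] at h2
    rw [h2, mul_zero]
  show (q ^ Finset.univ.sup c • z).1 σ W = 0
  rw [smul_val, ← resR_sc hWV, ← z.2 σ V W.1 hV W.2 (homOfLE hWV)]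
  refine (QCoh.map_smul' (M := L) (homOfLE hWV) (sc V (q ^ Finset.univ.sup c)) (z.1 σ ⟨V, hV⟩)).symm.trans ?_
  rw [ha, smul_smul, hca, zero_smul, map_zero]

theorem exists_bound_h1 {ι : Type u} (U : ι → X.Opens) (hcov : ⨆ i, U i = ⊤)
    (hA : ∀ {p : ℕ} (σ : Fin (p + 1) → ι), IsAffineOpen (⨅ a, U (σ a))) (hL : PicF.IsInvertible L) (q : R) :
    ∃ e : ℕ, ∀ (v : (cxMod (Coh.toGlobal πX) U L).X 1) (n : ℕ), (cxMod (Coh.toGlobal πX) U L).d 1 2 v = 0 →
      (∃ w, (cxMod (Coh.toGlobal πX) U L).d 0 1 w = q ^ n • v) →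
      ∃ w, (cxMod (Coh.toGlobal πX) U L).d 0 1 w = q ^ e • v := by
  haveI : IsLocallyNoetherian X := LocallyOfFiniteType.isLocallyNoetherian πX
  haveI : CompactSpace X := QuasiCompact.compactSpace_of_compactSpace πX
  haveI : X.IsSeparated := ⟨by
    rw [← Limits.terminal.comp_from πX]
    infer_instance⟩
  have hcoh : Coh.IsCoh L := CurveDeg.isCoh_of_isInvertible hL
  have hf : Module.Finite R (Coh.HH X L 1) := Groth.Agent.S0002.result R X L hcoh 1
  obtain ⟨φ⟩ := cxMod_homology_equiv (Coh.toGlobal πX) U hcov hA hcoh.1 1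
  haveI : Module.Finite R ((cxMod (Coh.toGlobal πX) U L).homology 1) :=
    @Module.Finite.equiv _ _ _ _ _ _ _ _ hf φ.symm
  exact exists_bound_homology _ q

/-- The preimage of the closed point lies in an open, so the open is everything. -/
theorem eq_top_of_closed_fibre (W : X.Opens) (hW : ∀ x : X, πX x = IsLocalRing.closedPoint R → x ∈ W) : W = ⊤ := by
  refine top_le_iff.1 fun x _ => ?_
  by_contra hx
  have hcl : IsClosed ((fun y : X => πX y) '' (W : Set X)ᶜ) := Scheme.Hom.isClosedMap πX _ W.isOpen.isClosed_compl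
  have hmem : IsLocalRing.closedPoint R ∈ (fun y : X => πX y) '' (W : Set X)ᶜ :=
    (IsLocalRing.specializes_closedPoint (πX x)).mem_closed hcl ⟨x, hx, rfl⟩
  obtain ⟨y, hy, hy'⟩ := hmem
  exact hy (hW y hy')

/-- Trivial on all thickenings of the closed fibre means trivial. -/
theorem triv_of_thick (hL : PicF.IsInvertible L) (q : R) (hq : IsLocalRing.maximalIdeal R = Ideal.span {q})
    (htriv : ∀ N : ℕ, Triv ((Scheme.Modules.pullback (CohB1.thickι πX (IsLocalRing.maximalIdeal R) N)).obj L)) :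
    Triv L := by
  haveI : CompactSpace X := QuasiCompact.compactSpace_of_compactSpace πX
  haveI : X.IsSeparated := ⟨by
    rw [← Limits.terminal.comp_from πX]
    infer_instance⟩
  obtain ⟨ι, _, U, ε, hcov, hε, hA⟩ := exists_frame_cover hL
  obtain ⟨c, hc⟩ := exists_bound_cochains U ε hε hA q
  obtain ⟨d, hd⟩ := exists_bound_h1 U hcov hA hL q
  let N := c + d
  let Y := CohB1.thick πX (IsLocalRing.maximalIdeal R) N
  let t : Y ⟶ X := CohB1.thickι πX (IsLocalRing.maximalIdeal R) N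
  haveI : IsClosedImmersion t := by
    haveI : IsClosedImmersion (CohB1.specQuot (IsLocalRing.maximalIdeal R) N) :=
      IsClosedImmersion.spec_of_surjective _ Ideal.Quotient.mk_surjective
    exact inferInstanceAs (IsClosedImmersion (pullback.fst πX (CohB1.specQuot (IsLocalRing.maximalIdeal R) N)))
  obtain ⟨η, hη⟩ := (htriv N).exists_frame
  have hker : ∀ (W : X.Opens), IsAffineOpen W → ∀ a : Γ(X, W), t.app W a = 0 →
      ∃ b, a = sc W (q ^ (N + 1)) * b := by
    intro W hW a ha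
    have h1 : a ∈ t.ker.ideal ⟨W, hW⟩ := by
      rw [FComplLib.ideal_ker]; exact ha
    rw [AmpleVan.ker_ideal_of_isPullback (J := IsLocalRing.maximalIdeal R ^ (N + 1))
      (q := CohB1.thickToBase πX _ N) (IsPullback.of_hasPullback _ _) ⟨W, hW⟩, hq, Ideal.span_singleton_pow,
      Ideal.map_span, Set.image_singleton, Ideal.mem_span_singleton] at h1
    exact h1
  -- local lifts of the frame
  have hloc : ∀ i, ∃ g : Γ(X, U i), AModX.res _ (le_top : t ⁻¹ᵁ U i ≤ ⊤) η = t.app (U i) g • pullElt t (ε i) ∧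
      IsUnit (t.app (U i) g) := fun i => by
    have hfr := isFrame_pullElt t (hε i)
    obtain ⟨h, hh⟩ := hfr.exists_coord le_rfl (AModX.res _ (le_top : t ⁻¹ᵁ U i ≤ ⊤) η)
    rw [AModX.res_self] at hh
    have hU : IsAffineOpen (U i) := by
      have h1 := hA (fun _ : Fin 1 => i)
      rwa [iInf_const] at h1
    obtain ⟨g, rfl⟩ := Scheme.Hom.app_surjective t (U i) hU h
    obtain ⟨h', hh'⟩ := (hη.res (le_top : t ⁻¹ᵁ U i ≤ ⊤)).exists_coord le_rfl (pullElt t (ε i))
    rw [AModX.res_self, hh, smul_smul] at hh'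
    exact ⟨g, hh, IsUnit.of_mul_eq_one h' (hfr.coord_unique le_rfl (by
      rw [one_smul, AModX.res_self, mul_comm]; exact hh'.symm))⟩
  choose g hg hgu using hloc
  let s₁ : ∀ i, Γ(L, U i) := fun i => g i • ε i
  have hs₁ : ∀ i, pullElt t (s₁ i) = AModX.res _ (le_top : t ⁻¹ᵁ U i ≤ ⊤) η := fun i => by
    rw [pullElt_smul, ← hg]
  have hdiff : ∀ σ : Fin 2 → ι, ∃ b : Γ(L, ⨅ a, U (σ a)),
      AModX.res L (iInf_le (fun a => U (σ a)) 1) (s₁ (σ 1)) - AModX.res L (iInf_le (fun a => U (σ a)) 0) (s₁ (σ 0)) =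
        sc (⨅ a, U (σ a)) (q ^ (N + 1)) • b := fun σ => by
    let V : X.Opens := ⨅ a, U (σ a)
    let D := AModX.res L (iInf_le (fun a => U (σ a)) 1) (s₁ (σ 1)) -
      AModX.res L (iInf_le (fun a => U (σ a)) 0) (s₁ (σ 0))
    have hfr := (hε (σ 0)).res (iInf_le (fun a => U (σ a)) 0 : V ≤ U (σ 0))
    obtain ⟨a, ha⟩ := hfr.exists_coord le_rfl D
    rw [AModX.res_self] at ha
    have hD : pullElt t D = 0 := by
      show ((Scheme.Modules.pullbackPushforwardAdjunction t).unit.app L).app V D = 0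
      rw [map_sub]
      show pullElt t (AModX.res L _ (s₁ (σ 1))) - pullElt t (AModX.res L _ (s₁ (σ 0))) = 0
      rw [← res_pullElt, ← res_pullElt, hs₁, hs₁, AModX.res_res, AModX.res_res, sub_self]
    rw [ha, pullElt_smul] at hD
    obtain ⟨b, rfl⟩ := hker V (hA σ) a ((isFrame_pullElt t hfr).coord_unique le_rfl (r' := 0)
      (by rw [AModX.res_self, zero_smul]; exact hD))
    exact ⟨b • AModX.res L _ (ε (σ 0)), by rw [smul_smul]; exact ha⟩
  choose t₁ ht₁ using hdiff
  let K := cxMod (Coh.toGlobal πX) U L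
  let s : K.X 0 := ⟨fun σ W => AModX.res L (W.2 0) (s₁ (σ 0)), fun σ W W' h h' i => AModX.res_res _ _ _⟩
  let τ : K.X 1 := ⟨fun σ W => AModX.res L (le_iInf fun a => W.2 a) (t₁ σ),
    fun σ W W' h h' i => AModX.res_res _ _ _⟩
  have hst : K.d 0 1 s = q ^ (1 + c + d) • τ := Subtype.ext <| funext₂ fun σ W => by
    rw [SecRep.d_apply, smul_val, show 1 + c + d = N + 1 by omega, ← resR_sc (le_iInf fun a => W.2 a : W.1 ≤ ⨅ a, U (σ a))]
    show AModX.res L _ (s₁ (σ ((0 : Fin 2).succAbove 0))) - AModX.res L _ (s₁ (σ ((1 : Fin 2).succAbove 0))) = _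
    rw [← AModX.res_smul, ← ht₁, map_sub, AModX.res_res, AModX.res_res]
    rfl
  obtain ⟨s', hs', w, hw⟩ := exists_cycle_near K q hc hd s τ hst
  obtain ⟨S, hS⟩ := SecRep.exists_glob (Coh.toGlobal πX) U L hcov s' hs'
  refine triv_of_frame (locus_eq_top_iff.1 (eq_top_of_closed_fibre (R := R) (locus S) fun x hx => ?_))
  obtain ⟨i, hi⟩ := Opens.mem_iSup.1 (show x ∈ ⨆ i, U i by rw [hcov]; trivial)
  have hle : Ab.Le U (fun _ : Fin 1 => i) (U i) := fun _ => le_rfl
  obtain ⟨b, hb⟩ := (hε i).exists_coord le_rfl (show Γ(L, U i) from w.1 (fun _ => i) ⟨U i, hle⟩)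
  rw [AModX.res_self] at hb
  have hSi : AModX.res L (le_top : U i ≤ ⊤) S = (g i - sc (U i) q * b) • ε i := by
    have h0 : s'.1 (fun _ => i) ⟨U i, hle⟩ = s₁ i - sc (U i) q • (show Γ(L, U i) from w.1 (fun _ => i) ⟨U i, hle⟩) := by
      rw [hw]
      show AModX.res L _ (s₁ i) - (q • w).1 (fun _ => i) ⟨U i, hle⟩ = _
      rw [smul_val, AModX.res_self]
    refine (congrArg (fun z : K.X 0 => z.1 (fun _ => i) ⟨U i, hle⟩) hS).trans (h0.trans ?_)
    rw [hb, smul_smul, sub_smul]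
  have hq0 : x ∉ X.basicOpen (sc (U i) q) := by
    intro hmem
    rw [show sc (U i) q = (X.presheaf.map (homOfLE (le_top : U i ≤ ⊤)).op).hom (Coh.toGlobal πX q) from rfl] at hmem
    rw [Scheme.basicOpen_res] at hmem
    have h1 : x ∈ πX ⁻¹ᵁ (Spec (CommRingCat.of R)).basicOpen ((Scheme.ΓSpecIso (CommRingCat.of R)).inv q) := by
      rw [Scheme.preimage_basicOpen]; exact hmem.2
    have h2 : IsLocalRing.closedPoint R ∈ PrimeSpectrum.basicOpen q := by
      rw [← hx]
      rw [basicOpen_eq_of_affine] at h1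
      exact h1
    exact h2 (show q ∈ IsLocalRing.maximalIdeal R by rw [hq]; exact Ideal.mem_span_singleton_self q)
  have hg0 : x ∈ X.basicOpen (g i) := by
    obtain ⟨z, hz⟩ : ∃ z, t z = x := by
      let cp : ↥(Spec (CommRingCat.of (R ⧸ IsLocalRing.maximalIdeal R ^ (N + 1)))) :=
        ⟨(IsLocalRing.maximalIdeal R).map (Ideal.Quotient.mk _),
          Ideal.map_isPrime_of_surjective Ideal.Quotient.mk_surjective (by
            rw [Ideal.mk_ker]; exact Ideal.pow_le_self N.succ_ne_zero)⟩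
      obtain ⟨z, hz, -⟩ := Scheme.Pullback.exists_preimage_pullback (f := πX)
        (g := CohB1.specQuot (IsLocalRing.maximalIdeal R) N) x cp (by
          rw [hx]
          refine (PrimeSpectrum.ext ?_).symm
          show Ideal.comap (Ideal.Quotient.mk _) ((IsLocalRing.maximalIdeal R).map (Ideal.Quotient.mk _)) = _
          rw [Ideal.comap_map_of_surjective _ Ideal.Quotient.mk_surjective, ← RingHom.ker_eq_comap_bot, Ideal.mk_ker]
          exact sup_eq_left.2 (Ideal.pow_le_self N.succ_ne_zero))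
      exact ⟨z, hz⟩
    have : z ∈ t ⁻¹ᵁ X.basicOpen (g i) := by
      rw [Scheme.preimage_basicOpen, Y.basicOpen_of_isUnit (hgu i)]
      show t z ∈ U i
      rw [hz]; exact hi
    rw [← hz]; exact this
  have hb' : x ∈ X.basicOpen (g i - sc (U i) q * b) := by
    rw [Scheme.mem_basicOpen _ _ x hi] at hq0 hg0 ⊢
    rw [map_sub, map_mul]
    refine IsLocalRing.notMem_maximalIdeal.1 fun hmem => ?_
    have h4 := Ideal.add_mem _ hmem (Ideal.mul_mem_right (X.presheaf.germ (U i) x hi b) _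
      (not_not.1 (mt IsLocalRing.notMem_maximalIdeal.1 hq0)))
    rw [sub_add_cancel] at h4
    exact (IsLocalRing.notMem_maximalIdeal.2 hg0) h4
  have hfr := (hε i).res (X.basicOpen_le (g i - sc (U i) q * b))
  refine mem_locus_iff.2 ⟨_, hb', ?_⟩
  have h3 := congrArg (AModX.res L (X.basicOpen_le (g i - sc (U i) q * b))) hSi
  rw [AModX.res_res, AModX.res_smul] at h3
  rw [h3]
  exact hfr.isUnit_smul (RingedSpace.isUnit_res_basicOpen X.toRingedSpace _)

end Groth.Agent.PicfLib.Thick
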